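import Cfsg.Agent.Lib.Golay.Weights

set_option autoImplicit false

namespace Cfsg.Agent.Lib.Golay

open Cfsg

/-- the support (as a finset) of the code word with information bits `m` -/
def cwSet (m : ℕ) : Finset GolayPt := maskFinset (encode m)

theorem encode_injOn {a b : ℕ} (ha : a < 4096) (hb : b < 4096) (h : encode a = encode b) : a = b := by
  rw [← encode_mod a ha, ← encode_mod b hb, h]

theorem cwSet_injOn {a b : ℕ} (ha : a < 4096) (hb : b < 4096) (h : cwSet a = cwSet b) : a = b :=
  encode_injOn ha hb (maskFinset_injOn (encode_lt a) (encode_lt b) h)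

theorem card_cwSet (m : ℕ) : (cwSet m).card = popcount (encode m) := card_maskFinset _

/-- the supports of the code words are the `cwSet m` -/
theorem mem_supports_iff (b : Finset GolayPt) :
    b ∈ supports (golayCode : Set (GolayPt → ZMod 2)) ↔ ∃ m, m < 4096 ∧ b = cwSet m := by
  unfold supports
  constructor
  · rintro ⟨w, hw, rfl⟩
    obtain ⟨m, hm, rfl⟩ := (mem_golayCode_iff w).mp hw
    exact ⟨m, hm, support₂_ofMask _⟩
  · rintro ⟨m, _, rfl⟩
    exact ⟨ofMask (encode m), ofMask_encode_mem m, support₂_ofMask _⟩

theorem wordsOfWeight_eq (n : ℕ) :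
    wordsOfWeight (golayCode : Set (GolayPt → ZMod 2)) n =
      ↑(((Finset.range 4096).filter (fun m => (popcount (encode m) == n) = true)).image cwSet) := by
  ext b
  simp only [wordsOfWeight, Set.mem_ofPred_eq, mem_supports_iff, Finset.coe_image, Finset.coe_filter,
    Finset.mem_range, beq_iff_eq, Set.mem_image]
  constructor
  · rintro ⟨⟨m, hm, rfl⟩, hc⟩
    exact ⟨m, ⟨hm, by rw [← card_cwSet]; exact hc⟩, rfl⟩
  · rintro ⟨m, ⟨hm, hc⟩, rfl⟩
    exact ⟨⟨m, hm, rfl⟩, by rw [card_cwSet]; exact hc⟩

theorem ncard_wordsOfWeight (n : ℕ) :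
    (wordsOfWeight (golayCode : Set (GolayPt → ZMod 2)) n).ncard =
      countBin (fun m => popcount (encode m) == n) 12 0 := by
  rw [wordsOfWeight_eq, Set.ncard_coe_finset, Finset.card_image_of_injOn, countBin_4096]
  intro a ha b hb h
  simp only [Finset.coe_filter, Finset.mem_range, Set.mem_ofPred_eq] at ha hb
  exact cwSet_injOn ha.1 hb.1 h

/-- **There are 759 octads.** -/
theorem ncard_octads : octads.ncard = 759 := by
  unfold octads; rw [ncard_wordsOfWeight]; exact count_weight_8

/-- **There are 2576 dodecads.** -/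
theorem ncard_dodecads : dodecads.ncard = 2576 := by
  unfold dodecads; rw [ncard_wordsOfWeight]; exact count_weight_12

theorem supports_finite : (supports (golayCode : Set (GolayPt → ZMod 2))).Finite :=
  Set.toFinite _

/-- the code has 4096 words -/
theorem natCard_golayCode : Nat.card golayCode = 4096 := by
  have e : Fin 4096 ≃ golayCode := Equiv.ofBijective
    (fun m => ⟨ofMask (encode m), ofMask_encode_mem m⟩) (by
      constructor
      · intro a b h
        have h' : ofMask (encode a) = ofMask (encode b) := congrArg Subtype.val h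
        exact Fin.ext (encode_injOn a.isLt b.isLt (ofMask_injOn (encode_lt _) (encode_lt _) h'))
      · rintro ⟨w, hw⟩
        obtain ⟨m, hm, rfl⟩ := (mem_golayCode_iff w).mp hw
        exact ⟨⟨m, hm⟩, rfl⟩)
  rw [← Nat.card_congr e, Nat.card_fin]

/-- **The Golay code has dimension 12.** -/
theorem finrank_golayCode : Module.finrank (ZMod 2) golayCode = 12 := by
  have h := Module.natCard_eq_pow_finrank (K := ZMod 2) (V := golayCode)
  rw [natCard_golayCode, Nat.card_zmod] at h
  have : (2 : ℕ) ^ 12 = 2 ^ Module.finrank (ZMod 2) golayCode := by rw [← h]; norm_num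
  exact (Nat.pow_right_injective (le_refl 2) this).symm

end Cfsg.Agent.Lib.Golay
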