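import Cfsg.Agent.Lib.Golay.GenFun
import Cfsg.Agent.Lib.Golay.Octads
import Cfsg.Agent.Lib.Helper93.Leech

/-! Counting vectors of the Leech lattice with a given sum of squares (≤ 64) and coordinates in a
given finite set `K ⊆ [-8, 8]`, by fibring over (parity, code word) and big-number generating functions. -/

set_option autoImplicit false

namespace Cfsg.Agent.Lib.Golay.LeechCount

open Cfsg Cfsg.Agent.Lib.Golay Cfsg.Agent.Lib.Helper93.Leech

/-- exponent weight of a coordinate value -/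
def ew (v : ℤ) : ℕ := 400 * (v ^ 2).toNat + (v + 8).toNat

/-- the base -/
def Y : ℕ := 2 ^ 64

/-- allowed values in the class of `r` mod 4 -/
def VK (K : Finset ℤ) (r : ℤ) : Finset ℤ := K.filter (fun v => v % 4 = r % 4)

/-- the box of a fibre -/
def box (K : Finset ℤ) (m : ℤ) (c : Finset GolayPt) : Finset (GolayPt → ℤ) :=
  Fintype.piFinset (fun i => VK K (if i ∈ c then m + 2 else m))

/-- the fibre over parity `m` and code word `c` -/
def fib (K : Finset ℤ) (N : ℤ) (m : ℤ) (c : Finset GolayPt) : Finset (GolayPt → ℤ) :=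
  (box K m c).filter (fun x => sqNorm x = N ∧ (∑ i, x i) % 8 = (4 * m) % 8)

/-- the set to be counted -/
def SK (K : Finset ℤ) (N : ℤ) : Set (GolayPt → ℤ) :=
  {x | x ∈ leechLattice ∧ sqNorm x = N ∧ ∀ i, x i ∈ K}

/-- supports of code words as a finset -/
def CSF : Finset (Finset GolayPt) := (Finset.range 4096).image cwSet

theorem mem_CSF (c : Finset GolayPt) : c ∈ CSF ↔ c ∈ CS := by
  unfold CSF CS
  rw [Cfsg.Agent.Lib.Golay.mem_supports_iff]
  simp only [Finset.mem_image, Finset.mem_range]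
  constructor
  · rintro ⟨a, ha, rfl⟩; exact ⟨a, ha, rfl⟩
  · rintro ⟨a, ha, rfl⟩; exact ⟨a, ha, rfl⟩

theorem mem_box {K : Finset ℤ} {m : ℤ} {c : Finset GolayPt} {x : GolayPt → ℤ} :
    x ∈ box K m c ↔ ∀ i, x i ∈ K ∧ x i % 4 = (if i ∈ c then m + 2 else m) % 4 := by
  simp [box, VK, Fintype.mem_piFinset]

theorem mem_fib_of_mem {K : Finset ℤ} {N : ℤ} {x : GolayPt → ℤ} (hx : x ∈ SK K N) :
    ∃ m ∈ ({0, 1} : Finset ℤ), ∃ c ∈ CSF, x ∈ fib K N m c := by
  obtain ⟨hL, hN, hK⟩ := hx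
  rw [mem_leechLattice_iff, mem_leechSet_iff] at hL
  obtain ⟨m', h1, h2, h3⟩ := hL
  refine ⟨m' % 2, ?_, cls x (m' % 2 + 2), (mem_CSF _).2 (h3 _), ?_⟩
  · simp only [Finset.mem_insert, Finset.mem_singleton]; omega
  · rw [fib, Finset.mem_filter, mem_box]
    refine ⟨fun i => ⟨hK i, ?_⟩, hN, ?_⟩
    · have hi := h1 i
      by_cases hc : i ∈ cls x (m' % 2 + 2)
      · rw [if_pos hc]; exact (mem_cls _ _ _).1 hc
      · rw [if_neg hc]
        have : ¬ x i % 4 = (m' % 2 + 2) % 4 := fun h => hc ((mem_cls _ _ _).2 h)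
        omega
    · omega

theorem fib_spec {K : Finset ℤ} {N : ℤ} {m : ℤ} {c : Finset GolayPt} {x : GolayPt → ℤ}
    (hm : m = 0 ∨ m = 1) (hx : x ∈ fib K N m c) :
    (∀ i, x i ∈ K) ∧ sqNorm x = N ∧ (∀ i, x i % 2 = m % 2) ∧ (∑ i, x i) % 8 = (4 * m) % 8 ∧
      cls x (m + 2) = c := by
  rw [fib, Finset.mem_filter, mem_box] at hx
  obtain ⟨hb, hN, hs⟩ := hx
  refine ⟨fun i => (hb i).1, hN, fun i => ?_, hs, ?_⟩
  · have := (hb i).2
    split_ifs at this <;> omega
  · ext i
    rw [mem_cls]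
    have := (hb i).2
    constructor
    · intro h
      by_contra hc
      rw [if_neg hc] at this
      rcases hm with rfl | rfl <;> omega
    · intro hc
      rw [if_pos hc] at this
      exact this

theorem mem_SK_of_mem_fib {K : Finset ℤ} {N : ℤ} {m : ℤ} {c : Finset GolayPt} {x : GolayPt → ℤ}
    (hm : m = 0 ∨ m = 1) (hc : c ∈ CSF) (hx : x ∈ fib K N m c) : x ∈ SK K N := by
  obtain ⟨hK, hN, h1, h2, h3⟩ := fib_spec hm hx
  refine ⟨?_, hN, hK⟩
  rw [mem_leechLattice_iff, mem_leechSet_iff']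
  exact ⟨m, h1, h2, by rw [h3]; exact (mem_CSF _).1 hc⟩

/-- the index set of the fibres -/
def IX : Finset (ℤ × Finset GolayPt) := ({0, 1} : Finset ℤ) ×ˢ CSF

theorem SK_eq (K : Finset ℤ) (N : ℤ) :
    SK K N = ↑(IX.biUnion (fun mc => fib K N mc.1 mc.2)) := by
  ext x
  simp only [Finset.coe_biUnion, Set.mem_iUnion, Finset.mem_coe, IX, Finset.mem_product,
    Finset.mem_insert, Finset.mem_singleton, exists_prop, Prod.exists]
  constructor
  · intro hx
    obtain ⟨m, hm, c, hc, hxf⟩ := mem_fib_of_mem hx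
    simp only [Finset.mem_insert, Finset.mem_singleton] at hm
    exact ⟨m, c, ⟨hm, hc⟩, hxf⟩
  · rintro ⟨m, c, ⟨hm, hc⟩, hxf⟩
    exact mem_SK_of_mem_fib hm hc hxf

theorem fib_disjoint (K : Finset ℤ) (N : ℤ) :
    (IX : Set (ℤ × Finset GolayPt)).PairwiseDisjoint (fun mc => fib K N mc.1 mc.2) := by
  rintro ⟨m, c⟩ hmc ⟨m', c'⟩ hmc' hne
  simp only [IX, Finset.coe_product, Set.mem_prod, Finset.mem_coe, Finset.mem_insert,
    Finset.mem_singleton] at hmc hmc'
  rw [Function.onFun, Finset.disjoint_left]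
  intro x hx hx'
  obtain ⟨-, -, h1, -, h3⟩ := fib_spec hmc.1 hx
  obtain ⟨-, -, h1', -, h3'⟩ := fib_spec hmc'.1 hx'
  have hmm : m = m' := by
    have a := h1 none
    have b := h1' none
    rcases hmc.1 with rfl | rfl <;> rcases hmc'.1 with rfl | rfl <;> omega
  subst hmm
  have h3a : cls x (m + 2) = c := h3
  have h3b : cls x (m + 2) = c' := h3'
  exact hne (by rw [← h3a, ← h3b])

theorem ncard_SK (K : Finset ℤ) (N : ℤ) :
    (SK K N).ncard = ∑ m ∈ ({0, 1} : Finset ℤ), ∑ a ∈ Finset.range 4096, (fib K N m (cwSet a)).card := by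
  rw [SK_eq, Set.ncard_coe_finset, Finset.card_biUnion (fib_disjoint K N), IX, Finset.sum_product]
  apply Finset.sum_congr rfl
  intro m _
  rw [CSF, Finset.sum_image]
  intro a ha b hb h
  exact cwSet_injOn (Finset.mem_range.1 ha) (Finset.mem_range.1 hb) h


/-! ### counting a fibre -/

theorem ew_cast {v : ℤ} (h1 : -8 ≤ v) : ((ew v : ℕ) : ℤ) = 400 * v ^ 2 + (v + 8) := by
  unfold ew
  push_cast
  rw [Int.toNat_of_nonneg (sq_nonneg v), Int.toNat_of_nonneg (by omega)]

theorem box_bounds {K : Finset ℤ} (hK : K ⊆ Finset.Icc (-8) 8) {m : ℤ} {c : Finset GolayPt}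
    {x : GolayPt → ℤ} (hx : x ∈ box K m c) (i : GolayPt) : -8 ≤ x i ∧ x i ≤ 8 := by
  have := hK ((mem_box.1 hx i).1)
  simpa using this

theorem box_E {K : Finset ℤ} (hK : K ⊆ Finset.Icc (-8) 8) {m : ℤ} {c : Finset GolayPt}
    {x : GolayPt → ℤ} (hx : x ∈ box K m c) :
    (((∑ i, ew (x i) : ℕ)) : ℤ) = 400 * sqNorm x + (∑ i, x i) + 192 ∧
      -192 ≤ ∑ i, x i ∧ ∑ i, x i ≤ 192 := by
  have hb := box_bounds hK hx
  refine ⟨?_, ?_, ?_⟩
  · push_cast
    rw [Finset.sum_congr rfl (fun i _ => ew_cast (hb i).1)]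
    unfold sqNorm
    rw [Finset.sum_add_distrib, Finset.sum_add_distrib, ← Finset.mul_sum, Finset.sum_const,
      Finset.card_univ, card_golayPt]
    simp
    ring
  · have : ∑ _i : GolayPt, (-8 : ℤ) ≤ ∑ i, x i := Finset.sum_le_sum fun i _ => (hb i).1
    rw [Finset.sum_const, Finset.card_univ, card_golayPt] at this
    simpa using this
  · have : ∑ i, x i ≤ ∑ _i : GolayPt, (8 : ℤ) := Finset.sum_le_sum fun i _ => (hb i).2
    rw [Finset.sum_const, Finset.card_univ, card_golayPt] at this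
    simpa using this

theorem card_fib {K : Finset ℤ} (hK : K ⊆ Finset.Icc (-8) 8) (N' : ℕ) (m : ℤ) (c : Finset GolayPt) :
    (fib K N' m c).card = ∑ u ∈ Finset.range 400,
      if ((u : ℤ) % 8 = (4 * m) % 8) then
        ((box K m c).filter (fun x => ∑ i, ew (x i) = 400 * N' + u)).card else 0 := by
  rw [Finset.card_eq_sum_card_fiberwise (f := fun x => (∑ i, ew (x i)) - 400 * N')
    (t := Finset.range 400)]
  · apply Finset.sum_congr rfl
    intro u hu
    rw [Finset.mem_range] at hu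
    split_ifs with hcond
    · apply congrArg Finset.card
      ext x
      simp only [fib, Finset.mem_filter]
      constructor
      · rintro ⟨⟨hb, hN, hs⟩, hf⟩
        obtain ⟨h1, h2, h3⟩ := box_E hK hb
        refine ⟨hb, ?_⟩
        omega
      · rintro ⟨hb, hE⟩
        obtain ⟨h1, h2, h3⟩ := box_E hK hb
        refine ⟨⟨hb, ?_, ?_⟩, ?_⟩ <;> omega
    · rw [Finset.card_eq_zero, Finset.filter_eq_empty_iff]
      intro x hx hf
      simp only [fib, Finset.mem_filter] at hx
      obtain ⟨hb, hN, hs⟩ := hx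
      obtain ⟨h1, h2, h3⟩ := box_E hK hb
      apply hcond
      omega
  · intro x hx
    rw [fib, Finset.mem_coe, Finset.mem_filter] at hx
    obtain ⟨hb, hN, hs⟩ := hx
    obtain ⟨h1, h2, h3⟩ := box_E hK hb
    rw [Finset.mem_coe, Finset.mem_range]
    show ∑ i, ew (x i) - 400 * N' < 400
    omega

theorem card_VK_le {K : Finset ℤ} (hK : K ⊆ Finset.Icc (-8) 8) (r : ℤ) : (VK K r).card ≤ 5 := by
  have hsub : VK K r ⊆ (Finset.Icc (-8 : ℤ) 8).filter (fun v => v % 4 = r % 4) := by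
    intro v hv
    rw [VK, Finset.mem_filter] at hv
    exact Finset.mem_filter.2 ⟨hK hv.1, hv.2⟩
  refine le_trans (Finset.card_le_card hsub) ?_
  have hr : r % 4 = 0 ∨ r % 4 = 1 ∨ r % 4 = 2 ∨ r % 4 = 3 := by omega
  rcases hr with h | h | h | h <;> rw [h] <;> decide

theorem card_box_lt {K : Finset ℤ} (hK : K ⊆ Finset.Icc (-8) 8) (m : ℤ) (c : Finset GolayPt) :
    (box K m c).card < Y := by
  rw [box, Fintype.card_piFinset]
  calc ∏ i, (VK K (if i ∈ c then m + 2 else m)).card ≤ ∏ _i : GolayPt, 5 :=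
        Finset.prod_le_prod' fun i _ => card_VK_le hK _
    _ = 5 ^ 24 := by rw [Finset.prod_const, Finset.card_univ, card_golayPt]
    _ < Y := by unfold Y; norm_num

/-- generating number of a value set -/
def gen (S : Finset ℤ) : ℕ := ∑ v ∈ S, Y ^ ew v

theorem card_box_filter {K : Finset ℤ} (hK : K ⊆ Finset.Icc (-8) 8) (m : ℤ) (c : Finset GolayPt) (k : ℕ) :
    ((box K m c).filter (fun x => ∑ i, ew (x i) = k)).card =
      (gen (VK K (m + 2)) ^ c.card * gen (VK K m) ^ (24 - c.card)) / Y ^ k % Y := by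
  have h := GenFun.card_filter_piFinset (fun i : GolayPt => VK K (if i ∈ c then m + 2 else m)) ew Y
    (card_box_lt hK m c) k
  have : ∀ i : GolayPt, (∑ v ∈ VK K (if i ∈ c then m + 2 else m), Y ^ ew v) =
      if i ∈ c then gen (VK K (m + 2)) else gen (VK K m) := by
    intro i; split_ifs <;> rfl
  rw [Finset.prod_congr rfl (fun i _ => this i), GenFun.prod_ite_pow, card_golayPt] at h
  rw [box, h]

/-- the count for one (parity, weight) pair, as a kernel-friendly number -/
def cnt (ga gb N' t w : ℕ) : ℕ :=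
  ∑ u ∈ Finset.range 400,
    if u % 8 = t then ((ga ^ w * gb ^ (24 - w)) >>> (64 * (400 * N' + u))) % Y else 0

theorem shift_eq (G k : ℕ) : G / Y ^ k % Y = (G >>> (64 * k)) % Y := by
  rw [Nat.shiftRight_eq_div_pow, Y, ← pow_mul]

theorem card_fib_eq {K : Finset ℤ} (hK : K ⊆ Finset.Icc (-8) 8) (N' : ℕ) (m : ℤ) (t : ℕ)
    (ht : ∀ u : ℕ, ((u : ℤ) % 8 = (4 * m) % 8) ↔ u % 8 = t) (c : Finset GolayPt) :
    (fib K N' m c).card = cnt (gen (VK K (m + 2))) (gen (VK K m)) N' t c.card := by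
  rw [card_fib hK, cnt]
  apply Finset.sum_congr rfl
  intro u _
  simp only [ht u, card_box_filter hK, shift_eq]

/-- regrouping a sum over the code words by weight -/
theorem sum_by_weight (F : ℕ → ℕ) : ∑ a ∈ Finset.range 4096, F (popcount (encode a)) =
    F 0 + 759 * F 8 + 2576 * F 12 + 759 * F 16 + F 24 := by
  have h1 : ∀ a ∈ Finset.range 4096, F (popcount (encode a)) =
      ∑ w ∈ ({0, 8, 12, 16, 24} : Finset ℕ), if popcount (encode a) = w then F w else 0 := by
    intro a ha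
    rw [Finset.sum_ite_eq]
    have := popcount_encode a (Finset.mem_range.1 ha)
    rw [if_pos]
    simp only [Finset.mem_insert, Finset.mem_singleton]
    exact this
  rw [Finset.sum_congr rfl h1, Finset.sum_comm]
  have h2 : ∀ w, ∑ a ∈ Finset.range 4096, (if popcount (encode a) = w then F w else 0) =
      countBin (fun m => popcount (encode m) == w) 12 0 * F w := by
    intro w
    have hf : (Finset.range 4096).filter (fun a => popcount (encode a) = w) =
        (Finset.range 4096).filter (fun m => (popcount (encode m) == w) = true) := by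
      ext a; simp
    rw [← Finset.sum_filter, Finset.sum_const, smul_eq_mul, hf, countBin_4096]
  simp only [h2]
  have c0 : countBin (fun m => popcount (encode m) == 0) 12 0 = 1 := by decide +kernel
  have c24 : countBin (fun m => popcount (encode m) == 24) 12 0 = 1 := by decide +kernel
  rw [Finset.sum_insert (by decide), Finset.sum_insert (by decide), Finset.sum_insert (by decide),
    Finset.sum_insert (by decide), Finset.sum_singleton, c0, c24, count_weight_8, count_weight_12,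
    count_weight_16]
  ring

/-- the total, as a kernel-friendly number: `g r` is the generating number of the values of `K`
congruent to `r` mod 4 -/
def total (g0 g1 g2 g3 N' : ℕ) : ℕ :=
  (cnt g2 g0 N' 0 0 + 759 * cnt g2 g0 N' 0 8 + 2576 * cnt g2 g0 N' 0 12 + 759 * cnt g2 g0 N' 0 16
      + cnt g2 g0 N' 0 24) +
  (cnt g3 g1 N' 4 0 + 759 * cnt g3 g1 N' 4 8 + 2576 * cnt g3 g1 N' 4 12 + 759 * cnt g3 g1 N' 4 16
      + cnt g3 g1 N' 4 24)

theorem ncard_SK_eq {K : Finset ℤ} (hK : K ⊆ Finset.Icc (-8) 8) (N' : ℕ) :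
    (SK K N').ncard = total (gen (VK K 0)) (gen (VK K 1)) (gen (VK K 2)) (gen (VK K 3)) N' := by
  rw [ncard_SK, Finset.sum_insert (by decide), Finset.sum_singleton]
  have h0 : ∀ u : ℕ, ((u : ℤ) % 8 = (4 * 0) % 8) ↔ u % 8 = 0 := by intro u; omega
  have h1 : ∀ u : ℕ, ((u : ℤ) % 8 = (4 * 1) % 8) ↔ u % 8 = 4 := by intro u; omega
  simp only [card_fib_eq hK N' 0 0 h0, card_fib_eq hK N' 1 4 h1, card_cwSet]
  rw [sum_by_weight (fun w => cnt (gen (VK K (0 + 2))) (gen (VK K 0)) N' 0 w),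
    sum_by_weight (fun w => cnt (gen (VK K (1 + 2))) (gen (VK K 1)) N' 4 w)]
  norm_num [total]


/-- the full box of coordinate values -/
noncomputable abbrev K8 : Finset ℤ := Finset.Icc (-8) 8

theorem coord_mem_K8 {x : GolayPt → ℤ} {N' : ℕ} (hN : N' ≤ 64) (hx : sqNorm x = N') (i : GolayPt) :
    x i ∈ K8 := by
  have h1 : x i ^ 2 ≤ sqNorm x := by
    unfold sqNorm
    exact Finset.single_le_sum (f := fun j => x j ^ 2) (fun j _ => sq_nonneg (x j)) (Finset.mem_univ i)
  have h2 : x i ^ 2 ≤ 64 := by rw [hx] at h1; exact le_trans h1 (by exact_mod_cast hN)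
  rw [Finset.mem_Icc]
  constructor <;> nlinarith

/-- **Number of lattice vectors of a given sum of squares `≤ 64`**, as a kernel-computable number. -/
theorem ncard_norm_eq (N' : ℕ) (hN : N' ≤ 64) :
    {x : GolayPt → ℤ | x ∈ leechLattice ∧ sqNorm x = (N' : ℤ)}.ncard =
      total (gen (VK K8 0)) (gen (VK K8 1)) (gen (VK K8 2)) (gen (VK K8 3)) N' := by
  rw [← ncard_SK_eq (K := K8) (fun _ h => h) N']
  congr 1
  ext x
  simp only [SK, Set.mem_setOf_eq]
  constructor
  · rintro ⟨h1, h2⟩; exact ⟨h1, h2, coord_mem_K8 hN h2⟩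
  · rintro ⟨h1, h2, _⟩; exact ⟨h1, h2⟩

end Cfsg.Agent.Lib.Golay.LeechCount
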