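import Mathlib

set_option autoImplicit false
open Matrix

/-!
Abstract counting theorem: in an even positive definite lattice of rank 24 without vectors of
norm 2 and with the Leech numbers of vectors of norms 4, 6, 8, the vectors of norm at most 8
represent every class modulo 2, and the norm 8 vectors fall into classes of exactly 48.
-/

namespace Cfsg.Agent.Lib.Golay.Cross48

abbrev V := Fin 24 → ℤ

variable (B : Matrix (Fin 24) (Fin 24) ℤ)

/-- quadratic form -/
def Qf (x : V) : ℤ := x ⬝ᵥ (B *ᵥ x)
/-- bilinear form -/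
def bf (x y : V) : ℤ := x ⬝ᵥ (B *ᵥ y)

theorem bf_self (x : V) : bf B x x = Qf B x := rfl

theorem bf_add_left (x y z : V) : bf B (x + y) z = bf B x z + bf B y z := by
  simp [bf, add_dotProduct]

theorem bf_add_right (x y z : V) : bf B x (y + z) = bf B x y + bf B x z := by
  simp [bf, mulVec_add, dotProduct_add]

theorem bf_smul_left (a : ℤ) (x y : V) : bf B (a • x) y = a * bf B x y := by
  unfold bf
  rw [smul_dotProduct, smul_eq_mul]

theorem bf_smul_right (a : ℤ) (x y : V) : bf B x (a • y) = a * bf B x y := by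
  unfold bf
  rw [mulVec_smul, dotProduct_smul, smul_eq_mul]

theorem bf_zero_left (y : V) : bf B 0 y = 0 := by simp [bf]

theorem bf_neg_left (x y : V) : bf B (-x) y = - bf B x y := by simp [bf]

theorem bf_neg_right (x y : V) : bf B x (-y) = - bf B x y := by simp [bf, mulVec_neg]

theorem bf_sum_left {ι : Type*} (s : Finset ι) (f : ι → V) (y : V) :
    bf B (∑ i ∈ s, f i) y = ∑ i ∈ s, bf B (f i) y := by
  simp [bf, sum_dotProduct]

theorem Qf_zero : Qf B 0 = 0 := by simp [Qf]

theorem Qf_neg (x : V) : Qf B (-x) = Qf B x := by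
  rw [← bf_self, bf_neg_left, bf_neg_right, neg_neg, bf_self]

theorem bf_comm (hsymm : B.IsSymm) (u v : V) : bf B u v = bf B v u := by
  unfold bf
  rw [dotProduct_mulVec, ← mulVec_transpose, hsymm.eq, dotProduct_comm]

/-- the hypotheses on the Gram matrix -/
structure Hyp : Prop where
  symm : B.IsSymm
  pos : ∀ x : V, x ≠ 0 → 0 < Qf B x
  even : ∀ x : V, (2 : ℤ) ∣ Qf B x
  no2 : ∀ x : V, Qf B x ≠ 2
  h4 : {x : V | Qf B x = 4}.ncard = 196560
  h6 : {x : V | Qf B x = 6}.ncard = 16773120
  h8 : {x : V | Qf B x = 8}.ncard = 398034000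

variable {B}

theorem key (h : Hyp B) {x y : V} (hx : Qf B x ≤ 8) (hy : Qf B y ≤ 8)
    (hc : ∀ i, (2 : ℤ) ∣ (x - y) i) :
    y = x ∨ y = -x ∨ (Qf B x = 8 ∧ Qf B y = 8 ∧ bf B x y = 0) := by
  choose z hz using hc
  have hxz : x = y + (2 : ℤ) • z := by
    funext i
    have := hz i
    simp only [Pi.sub_apply] at this
    simp only [Pi.add_apply, Pi.smul_apply, smul_eq_mul]
    linarith
  set w := y + z with hw
  have hyz : bf B y z = bf B z y := bf_comm B h.symm y z
  have e1 : Qf B x = Qf B y + 4 * bf B y z + 4 * Qf B z := by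
    have e0 : Qf B x = bf B x x := rfl
    rw [e0, hxz]
    simp only [bf_add_left, bf_add_right, bf_smul_left, bf_smul_right, ← hyz]
    simp only [bf_self]
    ring
  have e2 : bf B x y = Qf B y + 2 * bf B y z := by
    rw [hxz]
    simp only [bf_add_left, bf_smul_left, ← hyz]
    simp only [bf_self]
  have e3 : Qf B w = Qf B y + 2 * bf B y z + Qf B z := by
    have e0 : Qf B w = bf B w w := rfl
    rw [e0, hw]
    simp only [bf_add_left, bf_add_right, ← hyz]
    simp only [bf_self]
    ring
  by_cases hz0 : z = 0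
  · left
    rw [hxz, hz0]; simp
  by_cases hw0 : w = 0
  · right; left
    have : z = -y := by
      have := hw0
      rw [hw] at this
      exact eq_neg_of_add_eq_zero_right this
    rw [hxz, this]
    funext i
    simp only [Pi.neg_apply, Pi.add_apply, Pi.smul_apply, smul_eq_mul]
    ring
  right; right
  have p1 := h.pos z hz0
  have p2 := h.pos w hw0
  have ev1 := h.even z
  have ev2 := h.even w
  have n1 := h.no2 z
  have n2 := h.no2 w
  omega

/-- reduction modulo 2 -/
def red (x : V) : Fin 24 → ZMod 2 := fun i => (x i : ZMod 2)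

theorem red_eq_iff (x y : V) : red x = red y ↔ ∀ i, (2 : ℤ) ∣ (x - y) i := by
  simp only [red, funext_iff]
  refine forall_congr' fun i => ?_
  rw [ZMod.intCast_eq_intCast_iff_dvd_sub, Pi.sub_apply, ← dvd_neg, neg_sub]
  rfl

theorem card_classes : Fintype.card (Fin 24 → ZMod 2) = 2 ^ 24 := by
  simp

theorem short_cases (h : Hyp B) (x : V) (hx : Qf B x ≤ 8) :
    x = 0 ∨ Qf B x = 4 ∨ Qf B x = 6 ∨ Qf B x = 8 := by
  by_cases h0 : x = 0
  · exact Or.inl h0
  · right
    have p := h.pos x h0
    have e := h.even x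
    have n := h.no2 x
    omega

theorem short_finite (h : Hyp B) : {x : V | Qf B x ≤ 8}.Finite := by
  have f4 : {x : V | Qf B x = 4}.Finite := Set.finite_of_ncard_ne_zero (by rw [h.h4]; norm_num)
  have f6 : {x : V | Qf B x = 6}.Finite := Set.finite_of_ncard_ne_zero (by rw [h.h6]; norm_num)
  have f8 : {x : V | Qf B x = 8}.Finite := Set.finite_of_ncard_ne_zero (by rw [h.h8]; norm_num)
  refine (((Set.finite_singleton (0 : V)).union f4).union (f6.union f8)).subset ?_
  intro x hx
  rcases short_cases h x hx with h0 | h0 | h0 | h0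
  · exact Or.inl (Or.inl h0)
  · exact Or.inl (Or.inr h0)
  · exact Or.inr (Or.inl h0)
  · exact Or.inr (Or.inr h0)

/-- the finset of short vectors -/
noncomputable def S (h : Hyp B) : Finset V := (short_finite h).toFinset

theorem mem_S (h : Hyp B) (x : V) : x ∈ S h ↔ Qf B x ≤ 8 := by
  simp [S]

/-- the weight of a short vector -/
noncomputable def wt (B : Matrix (Fin 24) (Fin 24) ℤ) (y : V) : ℕ :=
  if y = 0 then 48 else if Qf B y = 8 then 1 else 24

theorem card_filter_eq (h : Hyp B) (k : ℤ) (hk : k ≤ 8) :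
    ((S h).filter (fun y => Qf B y = k)).card = {x : V | Qf B x = k}.ncard := by
  rw [← Set.ncard_coe_finset]
  congr 1
  ext y
  simp only [Finset.coe_filter, mem_S, Set.mem_ofPred_eq]
  constructor
  · exact fun hh => hh.2
  · exact fun hh => ⟨by omega, hh⟩

theorem sum_wt (h : Hyp B) : ∑ y ∈ S h, wt B y = 48 * 2 ^ 24 := by
  have hpt : ∀ y ∈ S h, wt B y =
      (if y = 0 then 48 else 0) + (if Qf B y = 4 then 24 else 0) + (if Qf B y = 6 then 24 else 0)
        + (if Qf B y = 8 then 1 else 0) := by
    intro y hy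
    rw [mem_S] at hy
    unfold wt
    by_cases h0 : y = 0
    · subst h0
      simp [Qf_zero]
    · have p := h.pos y h0
      rcases short_cases h y hy with h1 | h1 | h1 | h1
      · exact absurd h1 h0
      · simp [h0, h1]
      · simp [h0, h1]
      · simp [h0, h1]
  rw [Finset.sum_congr rfl hpt]
  simp only [Finset.sum_add_distrib]
  rw [← Finset.sum_filter, ← Finset.sum_filter, ← Finset.sum_filter, ← Finset.sum_filter]
  simp only [Finset.sum_const, smul_eq_mul]
  rw [card_filter_eq h 4 (by norm_num), card_filter_eq h 6 (by norm_num),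
    card_filter_eq h 8 (by norm_num), h.h4, h.h6, h.h8]
  have : ((S h).filter (fun y => y = 0)).card = 1 := by
    rw [Finset.card_eq_one]
    refine ⟨0, ?_⟩
    ext y
    simp only [Finset.mem_filter, mem_S, Finset.mem_singleton]
    constructor
    · exact fun hh => hh.2
    · rintro rfl
      simp [Qf_zero]
  rw [this]
  norm_num

/-- lexicographic positivity -/
def lexpos (y : V) : Prop := ∃ i, 0 < y i ∧ ∀ j < i, y j = 0

theorem lexpos_or (y : V) (hy : y ≠ 0) : lexpos y ∨ lexpos (-y) := by
  have hne : (Finset.univ.filter (fun i => y i ≠ 0)).Nonempty := by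
    by_contra hcon
    rw [Finset.not_nonempty_iff_eq_empty] at hcon
    apply hy
    funext i
    by_contra hi
    have hi' : y i ≠ 0 := hi
    have : i ∈ Finset.univ.filter (fun i => y i ≠ 0) := by simp [hi']
    rw [hcon] at this
    simp at this
  set i := (Finset.univ.filter (fun i => y i ≠ 0)).min' hne with hi
  have hmem := Finset.min'_mem _ hne
  rw [← hi] at hmem
  simp only [Finset.mem_filter, Finset.mem_univ, true_and] at hmem
  have hlt : ∀ j < i, y j = 0 := by
    intro j hj
    by_contra hj0
    have : j ∈ Finset.univ.filter (fun i => y i ≠ 0) := by simp [hj0]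
    have := Finset.min'_le _ j this
    rw [← hi] at this
    exact absurd hj (not_lt.mpr this)
  rcases lt_or_gt_of_ne hmem with hneg | hpos
  · right
    exact ⟨i, by simpa using hneg, fun j hj => by simp [hlt j hj]⟩
  · left
    exact ⟨i, hpos, hlt⟩

theorem not_lexpos_both (y : V) : ¬ (lexpos y ∧ lexpos (-y)) := by
  rintro ⟨⟨i, hi, hi'⟩, ⟨k, hk, hk'⟩⟩
  simp only [Pi.neg_apply, Left.neg_pos_iff, neg_eq_zero] at hk hk'
  rcases lt_trichotomy i k with hik | hik | hik
  · have := hk' i hik; omega
  · subst hik; omega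
  · have := hi' k hik; omega

theorem orth_card_le (G : Finset V) (hQ : ∀ y ∈ G, Qf B y ≠ 0)
    (horth : ∀ y ∈ G, ∀ y' ∈ G, y ≠ y' → bf B y y' = 0) : G.card ≤ 24 := by
  have hli : LinearIndependent ℤ (fun y : G => (y : V)) := by
    rw [linearIndependent_iff']
    intro s g hg i hi
    have := congrArg (fun u => bf B u (i : V)) hg
    simp only [bf_sum_left, bf_smul_left, bf_zero_left] at this
    rw [Finset.sum_eq_single i] at this
    · rcases mul_eq_zero.mp this with h0 | h0
      · exact h0
      · exact absurd h0 (hQ i i.2)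
    · intro j _ hji
      rw [horth j j.2 i i.2 (fun e => hji (Subtype.ext e)), mul_zero]
    · intro hi'; exact absurd hi hi'
  have := hli.fintype_card_le_finrank
  simpa using this

theorem frame_card_le (F : Finset V) (hQ : ∀ y ∈ F, Qf B y ≠ 0)
    (hpair : ∀ y ∈ F, ∀ y' ∈ F, y' = y ∨ y' = -y ∨ bf B y y' = 0) : F.card ≤ 48 := by
  classical
  have h0 : ∀ y ∈ F, y ≠ 0 := by
    intro y hy e
    apply hQ y hy
    rw [e, Qf_zero]
  have hsub : F ⊆ F.filter lexpos ∪ F.filter (fun y => lexpos (-y)) := by
    intro y hy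
    rw [Finset.mem_union, Finset.mem_filter, Finset.mem_filter]
    rcases lexpos_or y (h0 y hy) with hp | hp
    · exact Or.inl ⟨hy, hp⟩
    · exact Or.inr ⟨hy, hp⟩
  have h1 : (F.filter lexpos).card ≤ 24 := by
    apply orth_card_le (B := B)
    · intro y hy; exact hQ y (Finset.mem_filter.mp hy).1
    · intro y hy y' hy' hne
      rw [Finset.mem_filter] at hy hy'
      rcases hpair y hy.1 y' hy'.1 with e | e | e
      · exact absurd e.symm hne
      · exfalso
        apply not_lexpos_both y
        exact ⟨hy.2, by rw [← e]; exact hy'.2⟩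
      · exact e
  have h2 : (F.filter (fun y => lexpos (-y))).card ≤ 24 := by
    apply orth_card_le (B := B)
    · intro y hy; exact hQ y (Finset.mem_filter.mp hy).1
    · intro y hy y' hy' hne
      rw [Finset.mem_filter] at hy hy'
      rcases hpair y hy.1 y' hy'.1 with e | e | e
      · exact absurd e.symm hne
      · exfalso
        apply not_lexpos_both y
        refine ⟨?_, hy.2⟩
        have := hy'.2
        rw [e, neg_neg] at this
        exact this
      · exact e
  calc F.card ≤ (F.filter lexpos ∪ F.filter (fun y => lexpos (-y))).card := Finset.card_le_card hsub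
    _ ≤ (F.filter lexpos).card + (F.filter (fun y => lexpos (-y))).card := Finset.card_union_le _ _
    _ ≤ 48 := by omega

/-- the fibre of a class among the short vectors -/
noncomputable def fib (h : Hyp B) (c : Fin 24 → ZMod 2) : Finset V :=
  (S h).filter (fun y => red y = c)

theorem fib_key (h : Hyp B) (c : Fin 24 → ZMod 2) {x y : V} (hx : x ∈ fib h c) (hy : y ∈ fib h c) :
    y = x ∨ y = -x ∨ (Qf B x = 8 ∧ Qf B y = 8 ∧ bf B x y = 0) := by
  simp only [fib, Finset.mem_filter, mem_S] at hx hy
  apply key h hx.1 hy.1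
  rw [← red_eq_iff, hx.2, hy.2]

theorem wt_le (h : Hyp B) (c : Fin 24 → ZMod 2) : ∑ y ∈ fib h c, wt B y ≤ 48 := by
  classical
  by_cases hne : (fib h c).Nonempty
  swap
  · rw [Finset.not_nonempty_iff_eq_empty] at hne
    rw [hne]; simp
  obtain ⟨x, hx⟩ := hne
  by_cases hx0 : x = 0
  · -- fibre is {0}
    have hsub : fib h c ⊆ {0} := by
      intro y hy
      rw [Finset.mem_singleton]
      rcases fib_key h c hx hy with e | e | e
      · rw [e, hx0]
      · rw [e, hx0, neg_zero]
      · rw [hx0, Qf_zero] at e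
        omega
    calc ∑ y ∈ fib h c, wt B y ≤ ∑ y ∈ ({0} : Finset V), wt B y :=
          Finset.sum_le_sum_of_subset hsub
      _ = 48 := by simp [wt]
  by_cases hx8 : Qf B x = 8
  · -- frame
    have hall : ∀ y ∈ fib h c, Qf B y = 8 := by
      intro y hy
      rcases fib_key h c hx hy with e | e | e
      · rw [e, hx8]
      · rw [e, Qf_neg, hx8]
      · exact e.2.1
    have hw : ∀ y ∈ fib h c, wt B y = 1 := by
      intro y hy
      have h8 := hall y hy
      have hy0 : y ≠ 0 := by
        rintro rfl
        rw [Qf_zero] at h8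
        omega
      simp [wt, hy0, h8]
    rw [Finset.sum_congr rfl hw]
    simp only [Finset.sum_const, smul_eq_mul, mul_one]
    apply frame_card_le (B := B)
    · intro y hy; rw [hall y hy]; norm_num
    · intro y hy y' hy'
      rcases fib_key h c hy hy' with e | e | e
      · exact Or.inl e
      · exact Or.inr (Or.inl e)
      · exact Or.inr (Or.inr e.2.2)
  · -- fibre is {x, -x}
    have hsub : fib h c ⊆ {x, -x} := by
      intro y hy
      rw [Finset.mem_insert, Finset.mem_singleton]
      rcases fib_key h c hx hy with e | e | e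
      · exact Or.inl e
      · exact Or.inr e
      · exact absurd e.1 hx8
    have hnx : x ≠ -x := by
      intro e
      apply hx0
      funext i
      have := congrFun e i
      simp only [Pi.neg_apply] at this
      simp only [Pi.zero_apply]
      omega
    have hnx0 : -x ≠ 0 := by simpa using hx0
    calc ∑ y ∈ fib h c, wt B y ≤ ∑ y ∈ ({x, -x} : Finset V), wt B y :=
          Finset.sum_le_sum_of_subset hsub
      _ = 48 := by
          rw [Finset.sum_pair hnx]
          simp [wt, hx0, hx8, hnx0, Qf_neg]

theorem wt_eq (h : Hyp B) (c : Fin 24 → ZMod 2) : ∑ y ∈ fib h c, wt B y = 48 := by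
  classical
  have htot : ∑ c : Fin 24 → ZMod 2, ∑ y ∈ fib h c, wt B y = ∑ _c : Fin 24 → ZMod 2, 48 := by
    unfold fib
    rw [Finset.sum_fiberwise, sum_wt h]
    simp
  exact (Finset.sum_eq_sum_iff_of_le (fun c _ => wt_le h c)).mp htot c (Finset.mem_univ c)

/-- every class modulo 2 contains a short vector -/
theorem exists_short (h : Hyp B) (x : V) : ∃ y : V, Qf B y ≤ 8 ∧ ∀ i, (2 : ℤ) ∣ (x - y) i := by
  have h48 := wt_eq h (red x)
  have hne : (fib h (red x)).Nonempty := by
    by_contra hcon
    rw [Finset.not_nonempty_iff_eq_empty] at hcon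
    rw [hcon] at h48
    simp at h48
  obtain ⟨y, hy⟩ := hne
  simp only [fib, Finset.mem_filter, mem_S] at hy
  exact ⟨y, hy.1, (red_eq_iff x y).mp hy.2.symm⟩

/-- the norm 8 vectors congruent to a given one are exactly 48 -/
theorem card_cross (h : Hyp B) (x : V) (hx : Qf B x = 8) :
    {y : V | Qf B y = 8 ∧ ∀ i, (2 : ℤ) ∣ (x - y) i}.ncard = 48 := by
  have h48 := wt_eq h (red x)
  have hxm : x ∈ fib h (red x) := by
    simp only [fib, Finset.mem_filter, mem_S]
    exact ⟨by omega, trivial⟩
  have hall : ∀ y ∈ fib h (red x), Qf B y = 8 := by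
    intro y hy
    rcases fib_key h _ hxm hy with e | e | e
    · rw [e, hx]
    · rw [e, Qf_neg, hx]
    · exact e.2.1
  have hw : ∀ y ∈ fib h (red x), wt B y = 1 := by
    intro y hy
    have h8 := hall y hy
    have hy0 : y ≠ 0 := by
      rintro rfl
      rw [Qf_zero] at h8
      omega
    simp [wt, hy0, h8]
  rw [Finset.sum_congr rfl hw] at h48
  simp only [Finset.sum_const, smul_eq_mul, mul_one] at h48
  rw [← h48, ← Set.ncard_coe_finset]
  congr 1
  ext y
  simp only [Set.mem_ofPred_eq, Finset.mem_coe]
  constructor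
  · rintro ⟨h8, hc⟩
    simp only [fib, Finset.mem_filter, mem_S]
    exact ⟨by omega, ((red_eq_iff x y).mpr hc).symm⟩
  · intro hy
    refine ⟨hall y hy, ?_⟩
    simp only [fib, Finset.mem_filter, mem_S] at hy
    exact (red_eq_iff x y).mp hy.2.symm

end Cfsg.Agent.Lib.Golay.Cross48
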