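import Cfsg.Agent.S0391
import Cfsg.Agent.S0392
import Cfsg.Agent.S0393
import Cfsg.Agent.S0394
import Cfsg.Agent.S0395
import Cfsg.Agent.S0396
import Cfsg.Agent.Lib.Golay.Cross48

set_option autoImplicit false
open Cfsg Matrix

/-!
The Gram matrix of the explicit basis of the Leech lattice (divided by 8) satisfies the
hypotheses of the abstract counting theorem `Cross48`.
-/

namespace Cfsg.Agent.Lib.Golay.LeechGram

open Cfsg.Agent.Lib.Golay.LeechBasis Cfsg.Agent.Lib.Helper93.Golay Cfsg.Agent.Lib.Golay.Cross48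

/-- coordinates to lattice vectors -/
def Tf (c : Fin 24 → ℤ) : GolayPt → ℤ := ∑ j, c j • bvec j

theorem Tf_eq_T (c : Fin 24 → ℤ) : Tf c = Cfsg.Agent.S0393.T (fun p => c (ptIdx p)) := by
  rw [Cfsg.Agent.S0393.T_apply]
  exact (Equiv.sum_comp ptEquiv (fun j => c j • bvec j)).symm

theorem Tf_injective : Function.Injective Tf := by
  intro c d hcd
  rw [Tf_eq_T, Tf_eq_T] at hcd
  have := Cfsg.Agent.S0393.T_injective hcd
  funext j
  have h := congrFun this (ptOf j)
  simpa [ptIdx_ptOf] using h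

theorem Tf_mem (c : Fin 24 → ℤ) : Tf c ∈ leechLattice :=
  sum_mem fun j _ => zsmul_mem (bvec_mem j) _

theorem exists_Tf {x : GolayPt → ℤ} (hx : x ∈ leechLattice) : ∃ c, Tf c = x :=
  ⟨fun j => dotInt x (avec j) / 8, (Cfsg.Agent.S0393.expand hx).symm⟩

theorem Tf_add (c d : Fin 24 → ℤ) : Tf (c + d) = Tf c + Tf d := by
  simp [Tf, add_smul, Finset.sum_add_distrib]

theorem Tf_sub (c d : Fin 24 → ℤ) : Tf (c - d) = Tf c - Tf d := by
  simp [Tf, sub_smul, Finset.sum_sub_distrib]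

theorem Tf_two_smul (c : Fin 24 → ℤ) : Tf ((2 : ℤ) • c) = 2 • Tf c := by
  simp only [Tf, Pi.smul_apply, smul_eq_mul, Finset.smul_sum]
  apply Finset.sum_congr rfl
  intro j _
  rw [mul_smul]
  rfl

theorem Tf_apply (c : Fin 24 → ℤ) (p : GolayPt) : Tf c p = ∑ j, c j * bvec j p := by
  simp [Tf, Finset.sum_apply]

/-- Gram matrix divided by 8 -/
def Bm : Matrix (Fin 24) (Fin 24) ℤ := fun i j => dotInt (bvec i) (bvec j) / 8

theorem Bm_mul (i j : Fin 24) : 8 * Bm i j = dotInt (bvec i) (bvec j) :=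
  Int.mul_ediv_cancel' (Cfsg.Agent.S0393.eight_dvd_dot (bvec_mem i) (bvec_mem j))

theorem dotInt_comm (x y : GolayPt → ℤ) : dotInt x y = dotInt y x := by
  unfold dotInt
  exact Finset.sum_congr rfl fun p _ => mul_comm _ _

theorem Bm_symm : Bm.IsSymm := by
  ext i j
  simp only [Matrix.transpose_apply, Bm]
  rw [dotInt_comm]

theorem dot_Tf (c d : Fin 24 → ℤ) : dotInt (Tf c) (Tf d) = 8 * bf Bm c d := by
  unfold bf dotInt
  simp only [Tf_apply, dotProduct, mulVec]
  simp only [Finset.mul_sum, Finset.sum_mul]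
  have e1 : ∑ p : GolayPt, ∑ j : Fin 24, ∑ i : Fin 24, c i * bvec i p * (d j * bvec j p)
      = ∑ i : Fin 24, ∑ j : Fin 24, ∑ p : GolayPt, c i * bvec i p * (d j * bvec j p) := by
    refine Finset.sum_comm.trans ?_
    refine (Finset.sum_congr rfl fun j _ => Finset.sum_comm).trans ?_
    exact Finset.sum_comm
  rw [e1]
  apply Finset.sum_congr rfl
  intro i _
  apply Finset.sum_congr rfl
  intro j _
  have := Bm_mul i j
  unfold dotInt at this
  calc ∑ p, c i * bvec i p * (d j * bvec j p) = c i * d j * ∑ p, bvec i p * bvec j p := by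
        rw [Finset.mul_sum]
        exact Finset.sum_congr rfl fun p _ => by ring
    _ = 8 * (c i * (Bm i j * d j)) := by rw [← this]; ring

theorem sqNorm_eq_dot (x : GolayPt → ℤ) : sqNorm x = dotInt x x := by
  unfold sqNorm dotInt
  exact Finset.sum_congr rfl fun p _ => sq _

theorem sqNorm_Tf (c : Fin 24 → ℤ) : sqNorm (Tf c) = 8 * Qf Bm c := by
  rw [sqNorm_eq_dot, dot_Tf]
  rfl

theorem sqNorm_pos {x : GolayPt → ℤ} (hx : x ≠ 0) : 0 < sqNorm x := by
  unfold sqNorm
  obtain ⟨p, hp⟩ : ∃ p, x p ≠ 0 := by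
    by_contra hcon
    push Not at hcon
    exact hx (funext hcon)
  exact Finset.sum_pos' (fun i _ => sq_nonneg _) ⟨p, Finset.mem_univ p, by positivity⟩

theorem Tf_zero : Tf 0 = 0 := by simp [Tf]

theorem card_norm (k : ℤ) :
    {c : Fin 24 → ℤ | Qf Bm c = k}.ncard
      = {x : GolayPt → ℤ | x ∈ leechLattice ∧ sqNorm x = 8 * k}.ncard := by
  rw [← Set.ncard_image_of_injective _ Tf_injective]
  congr 1
  ext x
  simp only [Set.mem_image, Set.mem_ofPred_eq]
  constructor
  · rintro ⟨c, hc, rfl⟩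
    exact ⟨Tf_mem c, by rw [sqNorm_Tf, hc]⟩
  · rintro ⟨hx, hn⟩
    obtain ⟨c, rfl⟩ := exists_Tf hx
    refine ⟨c, ?_, rfl⟩
    rw [sqNorm_Tf] at hn
    omega

theorem hyp : Hyp Bm where
  symm := Bm_symm
  pos := by
    intro c hc
    have h1 : Tf c ≠ 0 := fun e => hc (Tf_injective (e.trans Tf_zero.symm))
    have := sqNorm_pos h1
    rw [sqNorm_Tf] at this
    omega
  even := by
    intro c
    have := Cfsg.Agent.S0392.result (Tf c) (Tf_mem c)
    rw [sqNorm_Tf] at this
    omega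
  no2 := by
    intro c hc2
    have h0 : c ≠ 0 := by
      rintro rfl
      rw [Qf_zero] at hc2
      omega
    have h1 : Tf c ≠ 0 := fun e => h0 (Tf_injective (e.trans Tf_zero.symm))
    have := Cfsg.Agent.S0391.result (Tf c) (Tf_mem c) h1
    rw [sqNorm_Tf] at this
    omega
  h4 := by rw [card_norm]; exact Cfsg.Agent.S0394.result
  h6 := by rw [card_norm]; exact Cfsg.Agent.S0395.result
  h8 := by rw [card_norm]; exact Cfsg.Agent.S0396.result

/-- congruence modulo twice the lattice in coordinates -/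
theorem cong_iff (c d : Fin 24 → ℤ) :
    (∃ z ∈ leechLattice, Tf c - Tf d = 2 • z) ↔ ∀ i, (2 : ℤ) ∣ (c - d) i := by
  constructor
  · rintro ⟨z, hz, hcd⟩
    obtain ⟨e, rfl⟩ := exists_Tf hz
    rw [← Tf_sub, ← Tf_two_smul] at hcd
    have := Tf_injective hcd
    intro i
    rw [this]
    exact ⟨e i, rfl⟩
  · intro h
    choose e he using h
    refine ⟨Tf e, Tf_mem e, ?_⟩
    rw [← Tf_sub, ← Tf_two_smul]
    congr 1
    funext i
    rw [he i]
    rfl

end Cfsg.Agent.Lib.Golay.LeechGram
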