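import Cfsg.Agent.Lib.Golay.Mask

set_option autoImplicit false

namespace Cfsg.Agent.Lib.Golay

open Cfsg

/-- masks of the 23 translates of the squares -/
def qrMasks : List ℕ := [340831, 681662, 1363324, 2726648, 5453296, 2517985, 5035970, 1683333, 3366666, 6733332, 5078057, 1767507, 3535014, 7070028, 5751449, 3114291, 6228582, 4068557, 8137114, 7885621, 7382635, 6376663, 4364719]

/-- the 12 basis masks (systematic on bits 0..11) -/
def basisMasks : List ℕ := [13062145, 4845570, 13938692, 7221256, 10170384, 11952160, 15515712, 2019456, 4038912, 8077824, 11654144, 14919680]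

/-- the all-ones mask -/
abbrev allOnes : ℕ := 16777215

/-- the 24 generator masks -/
def genMasks : List ℕ := qrMasks ++ [allOnes]

/-- `b` if bit `k` of `m` is set, else `0` -/
def sel (m k b : ℕ) : ℕ := if m.testBit k then b else 0

theorem sel_xor (a b k c : ℕ) : sel (a ^^^ b) k c = sel a k c ^^^ sel b k c := by
  unfold sel; rw [Nat.testBit_xor]; cases a.testBit k <;> cases b.testBit k <;> simp

theorem sel_lt (m k b : ℕ) (hb : b < 2 ^ 24) : sel m k b < 2 ^ 24 := by
  unfold sel; split
  · exact hb
  · exact Nat.two_pow_pos 24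

/-- xor of the entries `gs[i]` for which bit `k+i` of `c` is set -/
def xorSel (c : ℕ) : List ℕ → ℕ → ℕ
  | [], _ => 0
  | g :: gs, k => sel c k g ^^^ xorSel c gs (k + 1)

theorem xorSel_xor (a b : ℕ) (gs : List ℕ) (k : ℕ) :
    xorSel (a ^^^ b) gs k = xorSel a gs k ^^^ xorSel b gs k := by
  induction gs generalizing k with
  | nil => simp [xorSel]
  | cons g gs ih =>
    simp only [xorSel, sel_xor, ih]
    ac_rfl

theorem xorSel_lt (c : ℕ) (gs : List ℕ) (h : ∀ g ∈ gs, g < 2 ^ 24) (k : ℕ) : xorSel c gs k < 2 ^ 24 := by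
  induction gs generalizing k with
  | nil => simp [xorSel]
  | cons g gs ih =>
    simp only [xorSel]
    apply Nat.xor_lt_two_pow
    · exact sel_lt _ _ _ (h g (by simp))
    · exact ih (fun g' hg' => h g' (by simp [hg'])) _

/-- the code word (mask) with information bits `m` (12 bits) -/
def encode (m : ℕ) : ℕ := xorSel m basisMasks 0

/-- xor of the generators selected by the 24 bits of `c` -/
def genXor (c : ℕ) : ℕ := xorSel c genMasks 0

theorem encode_xor (a b : ℕ) : encode (a ^^^ b) = encode a ^^^ encode b := xorSel_xor _ _ _ _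

theorem encode_zero : encode 0 = 0 := by decide

theorem encode_lt (m : ℕ) : encode m < 2 ^ 24 :=
  xorSel_lt _ _ (by decide) _

/-- split a check over `m < 4096` into two nested loops of length 64 (keeps kernel recursion shallow) -/
theorem forall_lt_4096 (P : ℕ → Prop) (h : ∀ a, a < 64 → ∀ b, b < 64 → P (64 * a + b)) :
    ∀ m, m < 4096 → P m := by
  intro m hm
  have := h (m / 64) (by omega) (m % 64) (Nat.mod_lt _ (by norm_num))
  rwa [Nat.div_add_mod] at this

theorem encode_mod : ∀ m, m < 4096 → encode m % 4096 = m :=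
  forall_lt_4096 _ (by decide +kernel)

theorem qrWord_eq_ofMask : ∀ t : ZMod 23, ∀ p : GolayPt, qrWord t p = ofMask (qrMasks.getD t.val 0) p := by
  decide +kernel

theorem encode_gen : ∀ g ∈ genMasks, encode (g % 4096) = g := by decide +kernel

theorem basis_cert : basisMasks = List.map genXor [8390313, 280, 8389785, 1400, 8390330, 8390551, 8390093, 2000, 1347, 101, 8390243, 8390181] := by decide +kernel

theorem qrWord_eq (t : ZMod 23) : qrWord t = ofMask (qrMasks.getD t.val 0) :=
  funext (qrWord_eq_ofMask t)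

theorem qrWord_mem (t : ZMod 23) : qrWord t ∈ golayCode :=
  Submodule.subset_span (Or.inl ⟨t, rfl⟩)

theorem one_mem_golayCode : (1 : GolayPt → ZMod 2) ∈ golayCode :=
  Submodule.subset_span (Or.inr rfl)

theorem qrMasks_length : qrMasks.length = 23 := by decide

theorem mem_qrMasks_iff (g : ℕ) : g ∈ qrMasks ↔ ∃ t : ZMod 23, g = qrMasks.getD t.val 0 := by
  constructor
  · intro h
    obtain ⟨i, hi, rfl⟩ := List.mem_iff_getElem.mp h
    have hi' : i < 23 := by rw [qrMasks_length] at hi; exact hi
    refine ⟨((⟨i, hi'⟩ : Fin 23) : ZMod 23), ?_⟩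
    show qrMasks[i] = qrMasks.getD i 0
    exact (List.getD_eq_getElem _ _ hi).symm
  · rintro ⟨t, rfl⟩
    have ht : t.val < qrMasks.length := by rw [qrMasks_length]; exact ZMod.val_lt t
    rw [List.getD_eq_getElem _ _ ht]
    exact List.getElem_mem ht

theorem ofMask_gen_mem : ∀ g ∈ genMasks, ofMask g ∈ golayCode := by
  intro g hg
  simp only [genMasks, List.mem_append, List.mem_singleton] at hg
  rcases hg with hg | rfl
  · obtain ⟨t, rfl⟩ := (mem_qrMasks_iff g).mp hg
    rw [← qrWord_eq]; exact qrWord_mem t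
  · rw [ofMask_allOnes]; exact one_mem_golayCode

theorem ofMask_sel_mem (m k : ℕ) {g : ℕ} (hg : ofMask g ∈ golayCode) : ofMask (sel m k g) ∈ golayCode := by
  unfold sel; split
  · exact hg
  · rw [ofMask_zero]; exact zero_mem _

theorem ofMask_xorSel_mem (c : ℕ) (gs : List ℕ) (h : ∀ g ∈ gs, ofMask g ∈ golayCode) (k : ℕ) :
    ofMask (xorSel c gs k) ∈ golayCode := by
  induction gs generalizing k with
  | nil => simp only [xorSel]; rw [ofMask_zero]; exact zero_mem _
  | cons g gs ih =>
    simp only [xorSel]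
    rw [ofMask_xor]
    exact add_mem (ofMask_sel_mem _ _ (h g (by simp))) (ih (fun g' hg' => h g' (by simp [hg'])) _)

theorem ofMask_genXor_mem (c : ℕ) : ofMask (genXor c) ∈ golayCode :=
  ofMask_xorSel_mem c _ ofMask_gen_mem 0

theorem ofMask_basis_mem : ∀ b ∈ basisMasks, ofMask b ∈ golayCode := by
  intro b hb
  rw [basis_cert, List.mem_map] at hb
  obtain ⟨c, _, rfl⟩ := hb
  exact ofMask_genXor_mem c

theorem ofMask_encode_mem (m : ℕ) : ofMask (encode m) ∈ golayCode :=
  ofMask_xorSel_mem m _ ofMask_basis_mem 0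

/-- **Membership in the Golay code**: the code words are exactly the `4096` words `ofMask (encode m)`. -/
theorem mem_golayCode_iff (w : GolayPt → ZMod 2) :
    w ∈ golayCode ↔ ∃ m, m < 4096 ∧ w = ofMask (encode m) := by
  constructor
  · intro hw
    unfold golayCode at hw
    induction hw using Submodule.span_induction with
    | mem x hx =>
      have key : ∀ g ∈ genMasks, ∃ m, m < 4096 ∧ ofMask g = ofMask (encode m) := fun g hg =>
        ⟨g % 4096, Nat.mod_lt _ (by norm_num), by rw [encode_gen g hg]⟩
      rcases hx with ⟨t, rfl⟩ | hx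
      · rw [qrWord_eq]
        exact key _ (by
          simp only [genMasks, List.mem_append]; left
          exact (mem_qrMasks_iff _).mpr ⟨t, rfl⟩)
      · rw [Set.mem_singleton_iff] at hx
        subst hx
        rw [← ofMask_allOnes]
        exact key _ (by simp [genMasks])
    | zero => exact ⟨0, by norm_num, by rw [encode_zero, ofMask_zero]⟩
    | add x y _ _ hx hy =>
      obtain ⟨a, ha, rfl⟩ := hx
      obtain ⟨b, hb, rfl⟩ := hy
      refine ⟨a ^^^ b, ?_, ?_⟩
      · exact Nat.xor_lt_two_pow (n := 12) ha hb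
      · rw [encode_xor, ofMask_xor]
    | smul a x _ hx =>
      obtain ⟨m, hm, rfl⟩ := hx
      rcases (by decide : ∀ a : ZMod 2, a = 0 ∨ a = 1) a with rfl | rfl
      · exact ⟨0, by norm_num, by rw [zero_smul, encode_zero, ofMask_zero]⟩
      · exact ⟨m, hm, by rw [one_smul]⟩
  · rintro ⟨m, _, rfl⟩
    exact ofMask_encode_mem m

/-- decision procedure on masks -/
theorem ofMask_mem_golayCode_iff (c : ℕ) (hc : c < 2 ^ 24) :
    ofMask c ∈ golayCode ↔ encode (c % 4096) = c := by
  rw [mem_golayCode_iff]
  constructor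
  · rintro ⟨m, hm, h⟩
    have := ofMask_injOn hc (encode_lt m) h
    rw [this, encode_mod m hm]
  · intro h
    exact ⟨c % 4096, Nat.mod_lt _ (by norm_num), by rw [h]⟩

/-- decision procedure for words -/
theorem mem_golayCode_iff_toMask (w : GolayPt → ZMod 2) :
    w ∈ golayCode ↔ encode (toMask w % 4096) = toMask w := by
  rw [← ofMask_mem_golayCode_iff _ (toMask_lt w), ofMask_toMask]

end Cfsg.Agent.Lib.Golay
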