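import Mathlib

/-! Counting by big-number generating functions: the number of `x ∈ F` with `E x = k` is the `k`-th
base-`Y` digit of `∑ x ∈ F, Y ^ E x` when `F.card < Y`; for a product set the sum factors as a product.
Everything evaluates fast in the kernel (GMP arithmetic on literals). -/

set_option autoImplicit false

namespace Cfsg.Agent.Lib.Golay.GenFun

open Finset

/-- digit extraction -/
theorem digit_sum {α : Type*} [DecidableEq α] (F : Finset α) (E : α → ℕ) (Y : ℕ) (hY : F.card < Y) (k : ℕ) :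
    (∑ x ∈ F, Y ^ E x) / Y ^ k % Y = (F.filter (fun x => E x = k)).card := by
  have hYpos : 0 < Y := by omega
  have hpk : 0 < Y ^ k := Nat.pow_pos hYpos
  -- split the sum
  have h1 : ∑ x ∈ F, Y ^ E x = ∑ x ∈ F.filter (fun x => E x < k), Y ^ E x +
      (∑ x ∈ F.filter (fun x => E x = k), Y ^ E x + ∑ x ∈ F.filter (fun x => k < E x), Y ^ E x) := by
    rw [← Finset.sum_filter_add_sum_filter_not F (fun x => E x < k)]
    congr 1
    rw [← Finset.sum_filter_add_sum_filter_not (F.filter (fun x => ¬ E x < k)) (fun x => E x = k)]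
    congr 1
    · apply Finset.sum_congr _ (fun _ _ => rfl)
      ext x; simp only [Finset.mem_filter]; constructor
      · rintro ⟨⟨h, _⟩, h2⟩; exact ⟨h, h2⟩
      · rintro ⟨h, h2⟩; exact ⟨⟨h, by omega⟩, h2⟩
    · apply Finset.sum_congr _ (fun _ _ => rfl)
      ext x; simp only [Finset.mem_filter]; constructor
      · rintro ⟨⟨h, h1⟩, h2⟩; exact ⟨h, by omega⟩
      · rintro ⟨h, h2⟩; exact ⟨⟨h, by omega⟩, by omega⟩
  have h2 : ∑ x ∈ F.filter (fun x => E x = k), Y ^ E x = (F.filter (fun x => E x = k)).card * Y ^ k := by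
    rw [Finset.sum_congr rfl (fun x hx => by rw [(Finset.mem_filter.1 hx).2]), Finset.sum_const, smul_eq_mul]
  have h3 : ∑ x ∈ F.filter (fun x => k < E x), Y ^ E x =
      Y ^ k * (Y * ∑ x ∈ F.filter (fun x => k < E x), Y ^ (E x - k - 1)) := by
    rw [Finset.mul_sum, Finset.mul_sum]
    apply Finset.sum_congr rfl
    intro x hx
    have hx' := (Finset.mem_filter.1 hx).2
    rw [← mul_assoc, ← pow_succ, ← pow_add]
    congr 1; omega
  have h4 : ∑ x ∈ F.filter (fun x => E x < k), Y ^ E x < Y ^ k := by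
    rcases Nat.eq_zero_or_pos k with hk | hk
    · subst hk
      simp
    · calc ∑ x ∈ F.filter (fun x => E x < k), Y ^ E x
          ≤ ∑ _x ∈ F.filter (fun x => E x < k), Y ^ (k - 1) := by
            apply Finset.sum_le_sum
            intro x hx
            have hx' := (Finset.mem_filter.1 hx).2
            exact Nat.pow_le_pow_right hYpos (by omega)
        _ = (F.filter (fun x => E x < k)).card * Y ^ (k - 1) := by
            rw [Finset.sum_const, smul_eq_mul]
        _ ≤ F.card * Y ^ (k - 1) := Nat.mul_le_mul_right _ (Finset.card_filter_le _ _)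
        _ < Y * Y ^ (k - 1) := Nat.mul_lt_mul_of_pos_right hY (Nat.pow_pos hYpos)
        _ = Y ^ k := by rw [← pow_succ']; congr 1; omega
  set c := (F.filter (fun x => E x = k)).card with hc
  set L := ∑ x ∈ F.filter (fun x => E x < k), Y ^ E x with hL
  set H := ∑ x ∈ F.filter (fun x => k < E x), Y ^ (E x - k - 1) with hH
  rw [h1, h2, h3]
  have h5 : L + (c * Y ^ k + Y ^ k * (Y * H)) = L + Y ^ k * (c + Y * H) := by ring
  rw [h5, Nat.add_mul_div_left _ _ hpk, Nat.div_eq_of_lt h4, zero_add, Nat.add_mul_mod_self_left]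
  exact Nat.mod_eq_of_lt (lt_of_le_of_lt (Finset.card_filter_le _ _) hY)

/-- product formula -/
theorem prod_sum_pow {ι : Type*} [Fintype ι] [DecidableEq ι] (S : ι → Finset ℤ) (e : ℤ → ℕ) (Y : ℕ) :
    ∏ i, ∑ v ∈ S i, Y ^ e v = ∑ x ∈ Fintype.piFinset S, Y ^ (∑ i, e (x i)) := by
  rw [Finset.prod_univ_sum]
  apply Finset.sum_congr rfl
  intro x _
  rw [Finset.prod_pow_eq_pow_sum]

/-- main counting lemma -/
theorem card_filter_piFinset {ι : Type*} [Fintype ι] [DecidableEq ι] (S : ι → Finset ℤ) (e : ℤ → ℕ) (Y : ℕ)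
    (hY : (Fintype.piFinset S).card < Y) (k : ℕ) :
    ((Fintype.piFinset S).filter (fun x => ∑ i, e (x i) = k)).card =
      (∏ i, ∑ v ∈ S i, Y ^ e v) / Y ^ k % Y := by
  rw [prod_sum_pow, digit_sum _ _ _ hY]

/-- two kinds of coordinates -/
theorem prod_ite_pow {ι : Type*} [Fintype ι] [DecidableEq ι] (c : Finset ι) (a b : ℕ) :
    ∏ i, (if i ∈ c then a else b) = a ^ c.card * b ^ (Fintype.card ι - c.card) := by
  rw [Finset.prod_ite, Finset.prod_const, Finset.prod_const]
  congr 2
  · congr 1; ext i; simp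
  · rw [← Finset.card_compl]; congr 1; ext i; simp

end Cfsg.Agent.Lib.Golay.GenFun
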