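import Cfsg.Agent.Lib.Golay.Octads

set_option autoImplicit false

namespace Cfsg.Agent.Lib.Golay

open Cfsg
open scoped Pointwise

/-- general form of `ofMask_xorSel_mem` for an arbitrary submodule -/
theorem ofMask_xorSel_mem' (K : Submodule (ZMod 2) (GolayPt → ZMod 2)) (c : ℕ) (gs : List ℕ)
    (h : ∀ g ∈ gs, ofMask g ∈ K) (k : ℕ) : ofMask (xorSel c gs k) ∈ K := by
  induction gs generalizing k with
  | nil => simp only [xorSel]; rw [ofMask_zero]; exact zero_mem _
  | cons g gs ih =>
    simp only [xorSel]
    rw [ofMask_xor]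
    refine add_mem ?_ (ih (fun g' hg' => h g' (by simp [hg'])) _)
    unfold sel; split
    · exact h g (by simp)
    · rw [ofMask_zero]; exact zero_mem _

/-- a submodule containing the 12 basis words contains the Golay code -/
theorem golayCode_le_of_basis (K : Submodule (ZMod 2) (GolayPt → ZMod 2))
    (h : ∀ b ∈ basisMasks, ofMask b ∈ K) : golayCode ≤ K := by
  intro w hw
  obtain ⟨m, _, rfl⟩ := (mem_golayCode_iff w).mp hw
  exact ofMask_xorSel_mem' K m _ h 0

theorem support₂_injective : Function.Injective (support₂ : (GolayPt → ZMod 2) → Finset GolayPt) := by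
  intro v w h
  funext p
  have hp : p ∈ support₂ v ↔ p ∈ support₂ w := by rw [h]
  simp only [support₂, Finset.mem_filter, Finset.mem_univ, true_and] at hp
  have key : ∀ a b : ZMod 2, (a ≠ 0 ↔ b ≠ 0) → a = b := by decide
  exact key _ _ hp

theorem smul_support₂ (σ : Equiv.Perm GolayPt) (w : GolayPt → ZMod 2) :
    σ • support₂ w = support₂ (fun p => w (σ.symm p)) := by
  ext p
  rw [← Finset.inv_smul_mem_iff]
  simp only [support₂, Finset.mem_filter, Finset.mem_univ, true_and]
  rfl

/-- `σ` preserves the code (by precomposition) -/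
def PreservesCode (σ : Equiv.Perm GolayPt) : Prop :=
  ∀ w ∈ golayCode, (fun p => w (σ p)) ∈ golayCode

theorem PreservesCode.inv {σ : Equiv.Perm GolayPt} (h : PreservesCode σ) : PreservesCode σ⁻¹ := by
  let f : golayCode → golayCode := fun w => ⟨fun p => w.1 (σ p), h w.1 w.2⟩
  have hinj : Function.Injective f := by
    intro v w hvw
    apply Subtype.ext
    funext p
    have := congrFun (congrArg Subtype.val hvw) (σ.symm p)
    simpa [f] using this
  have hsurj : Function.Surjective f := Finite.injective_iff_surjective.mp hinj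
  intro w hw
  obtain ⟨v, hv⟩ := hsurj ⟨w, hw⟩
  have : (fun p => w (σ⁻¹ p)) = v.1 := by
    funext p
    have := congrFun (congrArg Subtype.val hv) (σ⁻¹ p)
    simp only [f] at this
    rw [← this]
    simp
  rw [this]; exact v.2

/-- **Semantic criterion for membership in `M24`.** -/
theorem mem_M24_iff_preservesCode (σ : Equiv.Perm GolayPt) : σ ∈ M24 ↔ PreservesCode σ := by
  unfold M24 setSystemAut
  rw [MulAction.mem_stabilizer_iff]
  constructor
  · intro h w hw
    have hmem : support₂ w ∈ σ • supports (golayCode : Set (GolayPt → ZMod 2)) := by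
      rw [h]; exact ⟨w, hw, rfl⟩
    obtain ⟨b, ⟨w', hw', rfl⟩, hb⟩ := hmem
    simp only at hb
    rw [smul_support₂] at hb
    have := support₂_injective hb
    rw [← this]
    simpa using hw'
  · intro h
    have hinv := h.inv
    apply Set.Subset.antisymm
    · rintro _ ⟨b, ⟨w, hw, rfl⟩, rfl⟩
      simp only
      rw [smul_support₂]
      exact ⟨_, hinv w hw, rfl⟩
    · rintro _ ⟨w, hw, rfl⟩
      refine ⟨support₂ (fun p => w (σ p)), ⟨_, h w hw, rfl⟩, ?_⟩
      simp only
      rw [smul_support₂]
      simp

/-- `σ` preserves the code iff it maps the 12 basis words into the code. -/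
theorem preservesCode_iff_basis (σ : Equiv.Perm GolayPt) :
    PreservesCode σ ↔ ∀ b ∈ basisMasks, (fun p => ofMask b (σ p)) ∈ golayCode := by
  constructor
  · intro h b hb
    exact h _ (ofMask_basis_mem b hb)
  · intro h w hw
    have := golayCode_le_of_basis (golayCode.comap (LinearMap.funLeft (ZMod 2) (ZMod 2) σ)) (by
      intro b hb
      rw [Submodule.mem_comap]
      exact h b hb) hw
    rw [Submodule.mem_comap] at this
    exact this

/-- mask of `w ∘ f` when `w = ofMask b` -/
def permMask (f : GolayPt → GolayPt) (b : ℕ) : ℕ :=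
  Nat.ofBits (fun i : Fin 24 => b.testBit (idx (f (pt i))))

theorem toMask_comp (f : GolayPt → GolayPt) (b : ℕ) :
    toMask (fun p => ofMask b (f p)) = permMask f b := by
  unfold toMask permMask
  congr 1
  funext i
  unfold ofMask
  by_cases h : b.testBit (idx (f (pt i))) = true <;> simp [h]

/-- Boolean test: `f` maps the 12 basis words into the code -/
def checkM24 (f : GolayPt → GolayPt) : Bool :=
  basisMasks.all fun b => encode (permMask f b % 4096) == permMask f b

/-- **Decidable criterion for membership in `M24`**: usable with `decide` / `decide +kernel`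
whenever the function `⇑σ` is computable (e.g. `projInv`, `cubeTwist`, `Equiv.optionCongr ...`). -/
theorem mem_M24_iff_check (σ : Equiv.Perm GolayPt) : σ ∈ M24 ↔ checkM24 σ = true := by
  rw [mem_M24_iff_preservesCode, preservesCode_iff_basis]
  unfold checkM24
  rw [List.all_eq_true]
  apply forall_congr'
  intro b
  apply imp_congr_right
  intro _
  rw [mem_golayCode_iff_toMask, toMask_comp, beq_iff_eq]

theorem mem_M24_of_check (σ : Equiv.Perm GolayPt) (f : GolayPt → GolayPt) (hf : ∀ p, σ p = f p)
    (h : checkM24 f = true) : σ ∈ M24 := by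
  have : (σ : GolayPt → GolayPt) = f := funext hf
  rw [mem_M24_iff_check, this]; exact h

example : projInv ∈ M24 := (mem_M24_iff_check _).mpr (by decide +kernel)
example : cubeTwist ∈ M24 := (mem_M24_iff_check _).mpr (by decide +kernel)

end Cfsg.Agent.Lib.Golay
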