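import Cfsg.Prelude.Def_Sporadic_a

set_option autoImplicit false

namespace Cfsg.Agent.Lib.Golay

open Cfsg

/-- index (0..23) of a point; the extra point gets 23 -/
def idx : GolayPt → Fin 24
  | none => 23
  | some x => ⟨x.val, by have := ZMod.val_lt x; omega⟩

/-- the point with a given index -/
def pt (i : Fin 24) : GolayPt :=
  if h : i.val < 23 then some ((⟨i.val, h⟩ : Fin 23) : ZMod 23) else none

theorem pt_idx : ∀ p : GolayPt, pt (idx p) = p := by decide
theorem idx_pt : ∀ i : Fin 24, idx (pt i) = i := by decide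

/-- points ≃ Fin 24 -/
def idxEquiv : GolayPt ≃ Fin 24 := ⟨idx, pt, pt_idx, idx_pt⟩

/-- word of a bitmask -/
def ofMask (m : ℕ) : GolayPt → ZMod 2 := fun p => if m.testBit (idx p) then 1 else 0

/-- bitmask of a word -/
def toMask (w : GolayPt → ZMod 2) : ℕ := Nat.ofBits (fun i : Fin 24 => decide (w (pt i) ≠ 0))

theorem toMask_lt (w : GolayPt → ZMod 2) : toMask w < 2 ^ 24 := Nat.ofBits_lt_two_pow _

theorem zmod2_ite : ∀ a : ZMod 2, (if a ≠ 0 then (1 : ZMod 2) else 0) = a := by decide

theorem ofMask_toMask (w : GolayPt → ZMod 2) : ofMask (toMask w) = w := by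
  funext p
  unfold ofMask toMask
  rw [Nat.testBit_ofBits_lt _ _ (idx p).isLt]
  simp only [Fin.eta, pt_idx, decide_eq_true_eq]
  exact zmod2_ite (w p)

theorem testBit_toMask (w : GolayPt → ZMod 2) (i : Fin 24) :
    (toMask w).testBit i = decide (w (pt i) ≠ 0) := by
  unfold toMask
  rw [Nat.testBit_ofBits_lt _ _ i.isLt]

theorem toMask_ofMask (m : ℕ) (h : m < 2 ^ 24) : toMask (ofMask m) = m := by
  apply Nat.eq_of_testBit_eq
  intro i
  by_cases hi : i < 24
  · have := testBit_toMask (ofMask m) ⟨i, hi⟩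
    simp only at this
    rw [this]
    unfold ofMask
    rw [idx_pt]
    by_cases hb : m.testBit i <;> simp [hb]
  · have h1 : (toMask (ofMask m)).testBit i = false :=
      Nat.testBit_lt_two_pow (lt_of_lt_of_le (toMask_lt _) (Nat.pow_le_pow_right (by norm_num) (by omega)))
    have h2 : m.testBit i = false :=
      Nat.testBit_lt_two_pow (lt_of_lt_of_le h (Nat.pow_le_pow_right (by norm_num) (by omega)))
    rw [h1, h2]

theorem ofMask_injOn {a b : ℕ} (ha : a < 2 ^ 24) (hb : b < 2 ^ 24) (h : ofMask a = ofMask b) : a = b := by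
  rw [← toMask_ofMask a ha, ← toMask_ofMask b hb, h]

theorem ofMask_zero : ofMask 0 = 0 := by
  funext p; simp [ofMask]

theorem zmod2_xor : ∀ a b : Bool, (if (a ^^ b) then (1 : ZMod 2) else 0) =
    (if a then 1 else 0) + (if b then 1 else 0) := by decide

theorem ofMask_xor (a b : ℕ) : ofMask (a ^^^ b) = ofMask a + ofMask b := by
  funext p
  simp only [ofMask, Nat.testBit_xor, Pi.add_apply]
  exact zmod2_xor _ _

theorem testBit_allOnes : ∀ i : Fin 24, Nat.testBit 16777215 i = true := by decide

theorem ofMask_allOnes : ofMask 16777215 = 1 := by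
  funext p
  simp [ofMask, testBit_allOnes]

end Cfsg.Agent.Lib.Golay
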