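import Cfsg.Agent.Lib.Golay.Code

set_option autoImplicit false

namespace Cfsg.Agent.Lib.Golay

open Cfsg

/-- number of set bits among the low `n` bits of `c` -/
def popcountAux : ℕ → ℕ → ℕ
  | 0, _ => 0
  | n + 1, c => c % 2 + popcountAux n (c / 2)

/-- number of set bits among the low 24 bits -/
abbrev popcount (c : ℕ) : ℕ := popcountAux 24 c

theorem popcountAux_eq_sum (n c : ℕ) : popcountAux n c = ∑ i : Fin n, (c.testBit i).toNat := by
  induction n generalizing c with
  | zero => simp [popcountAux]
  | succ n ih =>
    rw [popcountAux, Fin.sum_univ_succ, ih]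
    congr 1
    · simp only [Fin.val_zero, Nat.testBit_zero]
      rcases Nat.mod_two_eq_zero_or_one c with h | h <;> simp [h]
    · apply Finset.sum_congr rfl
      intro i _
      simp only [Fin.val_succ, Nat.testBit_succ]

/-- the set of points whose bit is set in the mask -/
def maskFinset (c : ℕ) : Finset GolayPt := Finset.univ.filter (fun p => c.testBit (idx p) = true)

theorem mem_maskFinset (c : ℕ) (p : GolayPt) : p ∈ maskFinset c ↔ c.testBit (idx p) = true := by
  simp [maskFinset]

theorem support₂_ofMask (c : ℕ) : support₂ (ofMask c) = maskFinset c := by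
  ext p
  simp only [support₂, ofMask, mem_maskFinset]
  by_cases h : c.testBit (idx p) <;> simp [h]

theorem card_maskFinset (c : ℕ) : (maskFinset c).card = popcount c := by
  unfold maskFinset popcount
  rw [popcountAux_eq_sum, Finset.card_filter]
  rw [← Equiv.sum_comp idxEquiv.symm]
  apply Finset.sum_congr rfl
  intro i _
  simp only [idxEquiv, Equiv.coe_fn_symm_mk, idx_pt]
  cases c.testBit i <;> simp

theorem hammingNorm_ofMask (c : ℕ) : hammingNorm (ofMask c) = popcount c := by
  rw [← card_maskFinset, ← support₂_ofMask]
  simp only [hammingNorm, support₂]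

theorem maskFinset_injOn {a b : ℕ} (ha : a < 2 ^ 24) (hb : b < 2 ^ 24) (h : maskFinset a = maskFinset b) :
    a = b := by
  apply ofMask_injOn ha hb
  funext p
  have := congrArg (fun s => p ∈ s) h
  simp only [mem_maskFinset, eq_iff_iff] at this
  unfold ofMask
  by_cases h1 : a.testBit (idx p) = true
  · rw [h1, this.mp h1]
  · have h2 : ¬ b.testBit (idx p) = true := fun h2 => h1 (this.mpr h2)
    simp only [Bool.not_eq_true] at h1 h2
    rw [h1, h2]

/-- `countBin P k lo` counts the `m ∈ [lo, lo + 2^k)` with `P m` (binary splitting: shallow recursion) -/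
def countBin (P : ℕ → Bool) : ℕ → ℕ → ℕ
  | 0, lo => (P lo).toNat
  | k + 1, lo => countBin P k lo + countBin P k (lo + 2 ^ k)

theorem countBin_eq (P : ℕ → Bool) (k lo : ℕ) :
    countBin P k lo = ((Finset.Ico lo (lo + 2 ^ k)).filter (fun m => P m = true)).card := by
  induction k generalizing lo with
  | zero =>
    simp only [countBin, pow_zero]
    rw [Nat.Ico_succ_singleton]
    cases h : P lo <;> simp [Finset.filter_singleton, h]
  | succ k ih =>
    rw [countBin, ih, ih]
    have hU : Finset.Ico lo (lo + 2 ^ (k + 1)) =
        Finset.Ico lo (lo + 2 ^ k) ∪ Finset.Ico (lo + 2 ^ k) (lo + 2 ^ k + 2 ^ k) := by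
      rw [Finset.Ico_union_Ico_eq_Ico (Nat.le_add_right _ _) (Nat.le_add_right _ _)]
      congr 1; ring
    rw [hU, Finset.filter_union, Finset.card_union_of_disjoint]
    apply Finset.disjoint_filter_filter
    exact Finset.Ico_disjoint_Ico_consecutive _ _ _

theorem countBin_4096 (P : ℕ → Bool) :
    ((Finset.range 4096).filter (fun m => P m = true)).card = countBin P 12 0 := by
  have h : (0 + 2 ^ 12 : ℕ) = 4096 := by norm_num
  rw [countBin_eq, h, Finset.range_eq_Ico]

/-- weights of the code words -/
theorem popcount_encode : ∀ m, m < 4096 →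
    popcount (encode m) = 0 ∨ popcount (encode m) = 8 ∨ popcount (encode m) = 12 ∨
      popcount (encode m) = 16 ∨ popcount (encode m) = 24 :=
  forall_lt_4096 _ (by decide +kernel)

/-- **Weights of the Golay code.** -/
theorem hammingNorm_of_mem {w : GolayPt → ZMod 2} (hw : w ∈ golayCode) :
    hammingNorm w = 0 ∨ hammingNorm w = 8 ∨ hammingNorm w = 12 ∨ hammingNorm w = 16 ∨ hammingNorm w = 24 := by
  obtain ⟨m, hm, rfl⟩ := (mem_golayCode_iff w).mp hw
  rw [hammingNorm_ofMask]
  exact popcount_encode m hm

theorem count_weight_8 : countBin (fun m => popcount (encode m) == 8) 12 0 = 759 := by decide +kernel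
theorem count_weight_12 : countBin (fun m => popcount (encode m) == 12) 12 0 = 2576 := by decide +kernel
theorem count_weight_16 : countBin (fun m => popcount (encode m) == 16) 12 0 = 759 := by decide +kernel

end Cfsg.Agent.Lib.Golay
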